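import Cfsg.Agent.H40.OC.Cor_m3
import Cfsg.Agent.Nodes.WittInst
import Cfsg.Agent.FastGrp
import Cfsg.Agent.Prune
set_option linter.all false

section
prune_inst 0x7f00000000000000000000000000000000000000000000000000000000000000000000000000000000000000000000000000000000000000000000000000000000000000000000000000000000000000003fffffffffffffffffffffffffffbeffbdffffffff

-- part: H845/OC/QSim
section
set_option linter.all false
open scoped Cfsg.Agent.FastGrp

/-!
# Similitudes of a quadratic form acting on `PΩ` (S4829, own characteristic; helper845)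

* `QSim Q l g` : `Q (g v) = l Q v`, `l ≠ 0`; `QSim.isSim`, `QSim.mul`, `QSim.inv`;
* `QSim.norm` : `g` normalises `E Q`;
* `full` : `H553.AF.Full (KSideO.model W hG hp)`;
* `QSim.ok` : the admissible pairs; `QSim.map_V0`.
-/

set_option autoImplicit false
set_option linter.unusedSectionVars false

namespace Cfsg.Agent.H845.OC

open Cfsg QuadraticMap
open Cfsg.Agent.ChevalleyStructure.CoxeterGeom Cfsg.Agent.Tits.Roots Cfsg.Agent.Nodes.TypeC
open Cfsg.Agent.Nodes.Comb Cfsg.Agent.Nodes.Reps Cfsg.Agent.Nodes.WittRoot Cfsg.Agent.Nodes.BNOf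
open Cfsg.Agent.Nodes.WittRGD
open Cfsg.Agent.TitsThree Cfsg.Agent.TitsThree.Siegel Cfsg.Agent.TitsThree.SiegelGen
  Cfsg.Agent.TitsThree.WittFrame
  Cfsg.Agent.TitsThree.WittWeyl Cfsg.Agent.TitsThree.FrameCN Cfsg.Agent.TitsThree.WBridge
  Cfsg.Agent.TitsThree.KSideO
open Cfsg.Agent.LieClassical Cfsg.Agent.LieClassical.OrthCore Cfsg.Agent.LieClassical.OrthTrans
open Cfsg.Agent.LieClassical.OrthSimple Cfsg.Agent.LieClassical.OrthFinite
open Cfsg.Agent.H553.AF

section General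

variable {F V : Type*} [Field F] [AddCommGroup V] [Module F V] {Q : QuadraticForm F V}

/-- similitudes of a quadratic form -/
structure QSim (Q : QuadraticForm F V) (l : F) (g : V ≃ₗ[F] V) : Prop where
  ne : l ≠ 0
  q : ∀ v, Q (g v) = l * Q v

theorem QSim.of_O {g : V ≃ₗ[F] V} (hg : g ∈ O Q) : QSim Q 1 g :=
  ⟨one_ne_zero, fun v => by rw [mem_O.1 hg, one_mul]⟩

theorem QSim.polar {l : F} {g : V ≃ₗ[F] V} (h : QSim Q l g) (v w : V) :
    QuadraticMap.polar Q (g v) (g w) = l * QuadraticMap.polar Q v w := by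
  rw [QuadraticMap.polar, QuadraticMap.polar, ← map_add, h.q, h.q, h.q]
  ring

theorem QSim.isSim {l : F} {g : V ≃ₗ[F] V} (h : QSim Q l g) : IsSim (HO Q) l g :=
  ⟨h.ne, rfl, fun v w => h.polar v w⟩

theorem QSim.mul {l l' : F} {g g' : V ≃ₗ[F] V} (h : QSim Q l g) (h' : QSim Q l' g') : QSim Q (l * l') (g * g') :=
  ⟨mul_ne_zero h.ne h'.ne, fun v => by
    change Q (g (g' v)) = _
    rw [h.q, h'.q, mul_assoc]⟩

theorem QSim.inv {l : F} {g : V ≃ₗ[F] V} (h : QSim Q l g) : QSim Q l⁻¹ g⁻¹ := by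
  refine ⟨inv_ne_zero h.ne, fun v => ?_⟩
  have := h.q (g⁻¹ v)
  have e : g (g⁻¹ v) = v := g.apply_symm_apply v
  rw [e] at this
  rw [this, inv_mul_cancel_left₀ h.ne]

theorem QSim.siegel_conj {l : F} {g : V ≃ₗ[F] V} (h : QSim Q l g) {u w : V} (hu : Q u = 0)
    (hw : QuadraticMap.polar Q u w = 0) (hu' : Q (g u) = 0) (hw' : QuadraticMap.polar Q (g u) (l⁻¹ • g w) = 0) :
    g * siegel Q u w hu hw * g⁻¹ = siegel Q (g u) (l⁻¹ • g w) hu' hw' := by
  ext v
  obtain ⟨v, rfl⟩ := g.surjective v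
  have h1 : (g * siegel Q u w hu hw * g⁻¹) (g v) = g (siegel Q u w hu hw v) := by
    show g (siegel Q u w hu hw (g.symm (g v))) = _
    rw [LinearEquiv.symm_apply_apply]
  have hl := h.ne
  rw [h1, siegel_apply, siegel_apply, h.polar, polar_smul_left, h.polar, QuadraticMap.map_smul, h.q]
  simp only [map_add, map_sub, map_smul, smul_smul, smul_eq_mul]
  have e1 : l * QuadraticMap.polar Q u v * l⁻¹ = QuadraticMap.polar Q u v := by field_simp
  have e2 : l⁻¹ * (l * QuadraticMap.polar Q w v) = QuadraticMap.polar Q w v := by field_simp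
  have e3 : l⁻¹ * l⁻¹ * (l * Q w) * (l * QuadraticMap.polar Q u v) = Q w * QuadraticMap.polar Q u v := by field_simp
  rw [e1, e2, e3]

theorem QSim.conj_mem_E {l : F} {g h : V ≃ₗ[F] V} (hg : QSim Q l g) (hh : h ∈ E Q) : g * h * g⁻¹ ∈ E Q := by
  induction hh using Subgroup.closure_induction with
  | mem x hx =>
    obtain ⟨u, w, hu, hw, rfl⟩ := hx
    have hu' : Q (g u) = 0 := by rw [hg.q, hu, mul_zero]
    have hw' : QuadraticMap.polar Q (g u) (l⁻¹ • g w) = 0 := by
      rw [polar_smul_right, hg.polar, hw, mul_zero, smul_zero]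
    rw [hg.siegel_conj hu hw hu' hw']
    exact siegel_mem_E hu' hw'
  | one => simp
  | mul x y _ _ hx hy =>
    have : g * (x * y) * g⁻¹ = (g * x * g⁻¹) * (g * y * g⁻¹) := by group
    rw [this]
    exact (E Q).mul_mem hx hy
  | inv x _ hx =>
    have : g * x⁻¹ * g⁻¹ = (g * x * g⁻¹)⁻¹ := by group
    rw [this]
    exact (E Q).inv_mem hx

/-- **a similitude normalises `E Q`** -/
theorem QSim.norm {l : F} {g : V ≃ₗ[F] V} (hg : QSim Q l g) :
    g ∈ Subgroup.normalizer ((E Q : Subgroup (V ≃ₗ[F] V)) : Set (V ≃ₗ[F] V)) := by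
  rw [Subgroup.mem_normalizer_iff]
  intro h
  refine ⟨fun hh => hg.conj_mem_E hh, fun hh => ?_⟩
  have h1 := hg.inv.conj_mem_E hh
  have e : g⁻¹ * (g * h * g⁻¹) * g⁻¹⁻¹ = h := by group
  rwa [e] at h1

end General

section Frame

variable {F V : Type*} [Field F] [AddCommGroup V] [Module F V] {Q : QuadraticForm F V} {m : ℕ}
  (W : WFrame (PO Q) m)

/-- a monomial similitude preserves the anisotropic part -/
theorem QSim.map_V0 {l : F} {g : V ≃ₗ[F] V} (hg : QSim Q l g) {π ρ : Fin m × Bool → Fin m × Bool}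
    (hm : Mono (toFrame W) g π) (hρ : ∀ x, π (ρ x) = x) {w : V} (hw : w ∈ W.V0) : g w ∈ W.V0 := by
  have key : ∀ x, QuadraticMap.polar Q (g w) ((toFrame W).b x) = 0 := by
    intro x
    obtain ⟨a, ha, e⟩ := hm (ρ x)
    rw [hρ] at e
    have h1 : (toFrame W).b x = a⁻¹ • g ((toFrame W).b (ρ x)) := by
      rw [e, smul_smul, inv_mul_cancel₀ ha, _root_.one_smul]
    rw [h1, polar_smul_right, hg.polar]
    have h2 : QuadraticMap.polar Q w ((toFrame W).b (ρ x)) = 0 := (toFrame W).h0' _ hw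
    rw [h2, mul_zero, smul_zero]
  exact Cfsg.Agent.Nodes.WittU.mem_V0_of_orth W (fun i => key (i, true)) (fun i => key (i, false))

include W in
/-- the multiplier is determined by the polar form -/
theorem QSim.mult_eq [NeZero m] {l l' : F} {g : V ≃ₗ[F] V} (hg : QSim Q l g) (hg' : IsSim (HO Q) l' g) : l' = l := by
  have h1 := hg'.sim ((toFrame W).b (0, false)) ((toFrame W).b (0, true))
  have h2 := hg.isSim.sim ((toFrame W).b (0, false)) ((toFrame W).b (0, true))
  rw [h1] at h2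
  refine mul_right_cancel₀ (b := (HO Q).h ((toFrame W).b (0, false)) ((toFrame W).b (0, true))) ?_ h2
  have := (toFrame W).hb_neg_self (0, true)
  change (HO Q).h ((toFrame W).b (0, false)) ((toFrame W).b (0, true)) = _ at this
  rw [this]
  exact (toFrame W).η_ne _

/-- admissible pairs under monomial similitudes -/
theorem QSim.ok [NeZero m] {l : F} {g : V ≃ₗ[F] V} (hg : QSim Q l g) {π ρ : Fin m × Bool → Fin m × Bool}
    (hm : Mono (toFrame W) g π) (hρ : ∀ x, π (ρ x) = x) {l' : F} (hl' : IsSim (HO Q) l' g) {v : V} {c : F}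
    (h : (toFrame W).ok v c) : (toFrame W).ok (g v) (l' * c) := by
  refine ⟨hg.map_V0 W hm hρ h.1, ?_⟩
  have h2 : c = -Q v := h.2
  change l' * c = -Q (g v)
  rw [hg.mult_eq W hl', hg.q, h2]
  ring

end Frame

section Matrix

variable {ι : Type} [Fintype ι] [DecidableEq ι] {F : Type*} [Field F] {Q : QuadraticForm F (ι → F)} {m : ℕ}
  (W : WFrame (PO Q) m)

/-- a map fixing all lines commutes with every linear map -/
theorem comm_of_lines {V : Type*} [AddCommGroup V] [Module F V] {g : V ≃ₗ[F] V} (hs : ∀ v, ∃ a : F, g v = a • v)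
    (k : V ≃ₗ[F] V) (v : V) : k (g v) = g (k v) := by
  have hk : ∀ v, ∃ c : F, k v ≠ 0 → g v = c • v ∧ g (k v) = c • k v := by
    intro v
    by_cases hv : ∃ m : F, k v = m • v
    · obtain ⟨m, hm⟩ := hv
      obtain ⟨a, ha⟩ := hs v
      exact ⟨a, fun _ => ⟨ha, by rw [hm, map_smul, ha, smul_comm]⟩⟩
    · obtain ⟨a, ha⟩ := hs v
      obtain ⟨c, hc⟩ := hs (k v)
      obtain ⟨d, hd⟩ := hs (v + k v)
      rw [map_add, ha, hc, smul_add] at hd
      have h1 : (c - d) • k v = (d - a) • v := by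
        rw [sub_smul, sub_smul]
        have h2 := hd
        rw [← sub_eq_zero] at h2 ⊢
        rw [← h2]; abel
      have hcd : c = d := by
        by_contra hne
        apply hv
        refine ⟨(c - d)⁻¹ * (d - a), ?_⟩
        rw [mul_smul, ← h1, smul_smul, inv_mul_cancel₀ (sub_ne_zero.2 hne), _root_.one_smul]
      have hv0 : v ≠ 0 := by
        rintro rfl
        exact hv ⟨0, by rw [map_zero, zero_smul]⟩
      have had : a = d := by
        subst hcd
        rw [sub_self, zero_smul] at h1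
        rcases smul_eq_zero.1 h1.symm with h3 | h3
        · exact (sub_eq_zero.1 h3).symm
        · exact absurd h3 hv0
      exact ⟨c, fun _ => ⟨by rw [ha, had, hcd], hc⟩⟩
  obtain ⟨c, hc⟩ := hk v
  by_cases h0 : k v = 0
  · have hv : v = 0 := k.map_eq_zero_iff.1 h0
    rw [hv]; simp
  · obtain ⟨h1, h2⟩ := hc h0
    rw [h1, h2, map_smul]

/-- **the kernel of the model consists of all scalars** -/
theorem full (hG : Good Q) (hp : ∃ p : (toFrame W).Adm, p.c ≠ 0) : Full (model W hG hp) where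
  surj := toPOmega_surjective hG
  ker := by
    have key : ∀ k : ↥(E Q), (∀ v, ∃ a : F, k.1 v = a • v) → toPOmega hG k = 1 := by
      intro k hk
      have h1 : toOmega hG k ∈ Subgroup.center (Cfsg.Omega F ⇑Q) := by
        rw [Subgroup.mem_center_iff]
        intro A
        obtain ⟨a, rfl⟩ := (toOmega hG).surjective A
        have e : a * k = k * a := by
          apply Subtype.ext
          ext1 v
          exact comm_of_lines hk a.1 v
        rw [← map_mul, ← map_mul, e]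
      exact (QuotientGroup.eq_one_iff _).2 h1
    exact key

end Matrix

end Cfsg.Agent.H845.OC
end

-- part: H845/OC/Odd
section
set_option linter.all false
open scoped Cfsg.Agent.FastGrp

/-!
# The adjoint frame of `PΩ_{2m+1}(F)`, `F` of odd characteristic (S4829; helper845)

`DS` : the diagonal similitudes of `oddForm m F`; `wdat : H553.AF.WDat`; `data`, `anti`.
-/

set_option autoImplicit false
set_option linter.unusedSectionVars false

namespace Cfsg.Agent.H845.OC.Odd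

open Cfsg QuadraticMap
open Cfsg.Agent.ChevalleyStructure.CoxeterGeom Cfsg.Agent.Tits.Roots Cfsg.Agent.Nodes.TypeC
open Cfsg.Agent.Nodes.Comb Cfsg.Agent.Nodes.Reps Cfsg.Agent.Nodes.WittRoot Cfsg.Agent.Nodes.BNOf
open Cfsg.Agent.Nodes.WittRGD Cfsg.Agent.Nodes.WittInst
open Cfsg.Agent.TitsThree Cfsg.Agent.TitsThree.Siegel Cfsg.Agent.TitsThree.SiegelGen
  Cfsg.Agent.TitsThree.WittFrame
  Cfsg.Agent.TitsThree.WittWeyl Cfsg.Agent.TitsThree.FrameCN Cfsg.Agent.TitsThree.WBridge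
  Cfsg.Agent.TitsThree.KSideO
open Cfsg.Agent.LieClassical Cfsg.Agent.LieClassical.OrthCore Cfsg.Agent.LieClassical.OrthTrans
open Cfsg.Agent.LieClassical.OrthSimple Cfsg.Agent.LieClassical.OrthFinite
open Cfsg.Agent.LieClassical.OrthForms
open Cfsg.Agent.H553.AF

universe v

variable {F : Type v} [Field F] {m : ℕ}

/-- the space -/
abbrev VV (m : ℕ) (F : Type v) : Type v := Unit ⊕ (Fin m ⊕ Fin m) → F

/-- the frame -/
noncomputable abbrev Fr (m : ℕ) (F : Type v) [Field F] : Frame (HO (oddForm m F)) (Fin m) := toFrame (wodd m F)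

/-- the anisotropic vector -/
def u0 (m : ℕ) (F : Type v) [Field F] : VV m F := Pi.single (Sum.inl ()) 1

theorem Q_u0 : oddForm m F (u0 m F) = 1 := by
  rw [coe_oddForm, quadFormOdd_apply, u0]
  simp only [_root_.Pi.single_eq_same, _root_.one_pow, _root_.ne_eq, _root_.reduceCtorEq, _root_.not_false_eq_true, _root_.Pi.single_eq_of_ne, _root_.MulZeroClass.mul_zero, _root_.Finset.sum_const_zero, _root_.add_zero]

theorem u0_ne : u0 m F ≠ 0 := by
  intro h
  have := congrFun h (Sum.inl ())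
  simp [u0] at this

theorem Q_apply (v : VV m F) : oddForm m F v = v (.inl ()) * v (.inl ()) +
    ∑ i : Fin m, v (.inr (.inl i)) * v (.inr (.inr i)) := by
  rw [coe_oddForm, quadFormOdd_apply, pow_two]

theorem mem_V0 {w : VV m F} : w ∈ (wodd m F).V0 ↔ ∀ j, w (Sum.inr j) = 0 := Iff.rfl

theorem V0_eq {w : VV m F} (hw : w ∈ (wodd m F).V0) : w = w (Sum.inl ()) • u0 m F := by
  have hw' := mem_V0.1 hw
  funext j
  rcases j with j | j
  · simp [u0]
  · simp [u0, hw']

theorem u0_mem : u0 m F ∈ (wodd m F).V0 := mem_V0.2 fun j => by simp [u0]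

theorem Q_smul_u0 (a : F) : oddForm m F (a • u0 m F) = a * a := by
  rw [QuadraticMap.map_smul, Q_u0, smul_eq_mul, mul_one]

/-- the admissible pairs -/
def adm (a : F) : (Fr m F).Adm := ⟨a • u0 m F, -(a * a), ⟨Submodule.smul_mem _ _ u0_mem, by
  change -(a * a) = -oddForm m F (a • u0 m F)
  rw [Q_smul_u0]⟩⟩

theorem adm_w (a : F) : (adm (m := m) a).w = a • u0 m F := rfl
theorem adm_c (a : F) : (adm (m := m) a).c = -(a * a) := rfl

/-- coordinates of the short root groups -/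
def yc (m : ℕ) (F : Type v) [Field F] : YC (Fr m F) F where
  y := adm
  inj a b h := by
    have h1 := congrFun (congrArg Frame.Adm.w h) (Sum.inl ())
    rw [adm_w, adm_w] at h1
    simpa [u0] using h1
  surj q := by
    refine ⟨q.w (Sum.inl ()), Frame.Adm.ext ?_ ?_⟩
    · exact (V0_eq q.ok.1).symm
    · have hc : q.c = -(oddForm m F) q.w := q.ok.2
      rw [adm_c, hc]
      conv_rhs => rw [V0_eq q.ok.1]
      rw [Q_smul_u0]
  add a b := by
    apply Frame.Adm.ext
    · rw [Frame.Adm.mul_w, adm_w, adm_w, adm_w, add_smul]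
    · rw [Frame.Adm.mul_c, adm_c, adm_c, adm_c, adm_w, adm_w]
      have h1 : (HO (oddForm m F)).h (b • u0 m F) (a • u0 m F) = 2 * (a * b) := by
        rw [HO_h, polar_smul_left, polar_smul_right, polar_self', Q_u0]
        simp only [smul_eq_mul]
        ring
      rw [h1]
      have h2 : (HO (oddForm m F)).ε = 1 := rfl
      rw [h2, inv_one]
      ring

/-- coordinates determine linear maps -/
theorem ext_b {g g' : VV m F ≃ₗ[F] VV m F}
    (h : ∀ x, g ((Fr m F).b x) = g' ((Fr m F).b x)) (h0 : g (u0 m F) = g' (u0 m F)) : g = g' := by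
  ext1 v
  obtain ⟨x, y, w, hw, e⟩ := (wodd m F).span v
  rw [e, map_add, map_add, map_add, map_add, map_sum, map_sum, map_sum, map_sum, V0_eq hw, map_smul, map_smul, h0]
  congr 2
  · exact Finset.sum_congr rfl fun i _ => by
      rw [map_smul, map_smul]; congr 1; exact h (i, true)
  · exact Finset.sum_congr rfl fun i _ => by
      rw [map_smul, map_smul]; congr 1; exact h (i, false)

/-- the diagonal maps: `e i ↦ d i e i`, `f i ↦ c i f i`, `u0 ↦ k u0` -/
def dg (d c : Fin m → Fˣ) (k : Fˣ) : VV m F ≃ₗ[F] VV m F :=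
  LinearEquiv.piCongrRight fun j => LinearEquiv.smulOfUnit (Sum.elim (fun _ => k) (Sum.elim d c) j)

theorem dg_inl (d c : Fin m → Fˣ) (k : Fˣ) (v : VV m F) : dg d c k v (Sum.inl ()) = k * v (Sum.inl ()) := rfl

theorem dg_e' (d c : Fin m → Fˣ) (k : Fˣ) (v : VV m F) (i : Fin m) :
    dg d c k v (Sum.inr (Sum.inl i)) = d i * v (Sum.inr (Sum.inl i)) := rfl

theorem dg_f' (d c : Fin m → Fˣ) (k : Fˣ) (v : VV m F) (i : Fin m) :
    dg d c k v (Sum.inr (Sum.inr i)) = c i * v (Sum.inr (Sum.inr i)) := rfl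

theorem dg_e (d c : Fin m → Fˣ) (k : Fˣ) (i : Fin m) :
    dg d c k ((Fr m F).b (i, true)) = (d i : F) • (Fr m F).b (i, true) := by
  change dg d c k (Pi.single (Sum.inr (Sum.inl i)) 1) = (d i : F) • Pi.single (Sum.inr (Sum.inl i)) 1
  funext j
  rcases j with j | (j | j)
  · rw [dg_inl]; simp
  · rw [dg_e']
    by_cases h : j = i
    · subst h; simp
    · simp [h]
  · rw [dg_f']; simp

theorem dg_f (d c : Fin m → Fˣ) (k : Fˣ) (i : Fin m) :
    dg d c k ((Fr m F).b (i, false)) = (c i : F) • (Fr m F).b (i, false) := by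
  change dg d c k (Pi.single (Sum.inr (Sum.inr i)) 1) = (c i : F) • Pi.single (Sum.inr (Sum.inr i)) 1
  funext j
  rcases j with j | (j | j)
  · rw [dg_inl]; simp
  · rw [dg_e']; simp
  · rw [dg_f']
    by_cases h : j = i
    · subst h; simp
    · simp [h]

theorem dg_u (d c : Fin m → Fˣ) (k : Fˣ) : dg d c k (u0 m F) = (k : F) • u0 m F := by
  funext j
  rcases j with j | (j | j)
  · rw [dg_inl]; simp [u0]
  · rw [dg_e']; simp [u0]
  · rw [dg_f']; simp [u0]

theorem dg_sim (d c : Fin m → Fˣ) (k l : Fˣ) (h : ∀ i, d i * c i = l) (hk : k * k = l) :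
    QSim (oddForm m F) (l : F) (dg d c k) := by
  refine ⟨l.ne_zero, fun v => ?_⟩
  have h' : ∀ i, (d i : F) * (c i : F) = l := fun i => by rw [← h i]; rfl
  have hk' : (k : F) * (k : F) = l := by rw [← hk]; rfl
  rw [Q_apply, Q_apply, dg_inl, mul_add, Finset.mul_sum]
  congr 1
  · rw [← hk']; ring
  · refine Finset.sum_congr rfl fun i _ => ?_
    rw [dg_e', dg_f', ← h' i]
    ring

/-- the exchange `e i ↔ f i` -/
def ww (m : ℕ) (F : Type v) [Field F] : VV m F ≃ₗ[F] VV m F :=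
  LinearEquiv.funCongrLeft F F (Equiv.sumCongr (Equiv.refl Unit) (Equiv.sumComm (Fin m) (Fin m)))

theorem ww_inl (v : VV m F) : ww m F v (Sum.inl ()) = v (Sum.inl ()) := rfl
theorem ww_e' (v : VV m F) (i : Fin m) : ww m F v (Sum.inr (Sum.inl i)) = v (Sum.inr (Sum.inr i)) := rfl
theorem ww_f' (v : VV m F) (i : Fin m) : ww m F v (Sum.inr (Sum.inr i)) = v (Sum.inr (Sum.inl i)) := rfl

theorem ww_e (i : Fin m) : ww m F ((Fr m F).b (i, true)) = (Fr m F).b (i, false) := by
  change ww m F (Pi.single (Sum.inr (Sum.inl i)) 1) = Pi.single (Sum.inr (Sum.inr i)) 1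
  funext j
  rcases j with j | (j | j)
  · rw [ww_inl]; simp
  · rw [ww_e']; simp
  · rw [ww_f']; simp [Pi.single_apply]

theorem ww_f (i : Fin m) : ww m F ((Fr m F).b (i, false)) = (Fr m F).b (i, true) := by
  change ww m F (Pi.single (Sum.inr (Sum.inr i)) 1) = Pi.single (Sum.inr (Sum.inl i)) 1
  funext j
  rcases j with j | (j | j)
  · rw [ww_inl]; simp
  · rw [ww_e']; simp [Pi.single_apply]
  · rw [ww_f']; simp

theorem ww_u : ww m F (u0 m F) = u0 m F := by
  funext j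
  rcases j with j | (j | j)
  · rw [ww_inl]
  · rw [ww_e']; simp [u0]
  · rw [ww_f']; simp [u0]

theorem ww_O : ww m F ∈ O (oddForm m F) := by
  intro v
  rw [Q_apply, Q_apply, ww_inl]
  congr 1
  refine Finset.sum_congr rfl fun i _ => ?_
  rw [ww_e', ww_f', mul_comm]

theorem ww_sq (v : VV m F) : ww m F (ww m F v) = (1 : F) • v := by
  funext j
  rcases j with j | (j | j)
  · rw [ww_inl, ww_inl]; simp
  · rw [ww_e', ww_f']; simp
  · rw [ww_f', ww_e']; simp

theorem ww_b (x : Fin m × Bool) : ww m F ((Fr m F).b x) = (Fr m F).b (neg x) := by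
  obtain ⟨i, b⟩ := x
  cases b
  · exact ww_f i
  · exact ww_e i

/-! ### the torus -/

/-- the diagonal similitudes -/
def DS (m : ℕ) (F : Type v) [Field F] : Subgroup (VV m F ≃ₗ[F] VV m F) where
  carrier := {g | Mono (Fr m F) g id ∧ (∃ k : F, k ≠ 0 ∧ g (u0 m F) = k • u0 m F) ∧ ∃ l, QSim (oddForm m F) l g}
  one_mem' := ⟨Mono.one, ⟨1, one_ne_zero, by rw [one_smul]; rfl⟩, 1, QSim.of_O (O (oddForm m F)).one_mem⟩
  mul_mem' := by
    rintro g g' ⟨h1, ⟨k, hk0, hk⟩, l, h2⟩ ⟨h1', ⟨k', hk0', hk'⟩, l', h2'⟩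
    refine ⟨h1.mul h1', ⟨k * k', mul_ne_zero hk0 hk0', ?_⟩, _, h2.mul h2'⟩
    change g (g' (u0 m F)) = _
    rw [hk', map_smul, hk, smul_smul, mul_comm]
  inv_mem' := by
    rintro g ⟨h1, ⟨k, hk0, hk⟩, l, h2⟩
    refine ⟨h1.inv fun _ => rfl, ⟨k⁻¹, inv_ne_zero hk0, ?_⟩, _, h2.inv⟩
    have h4 : g⁻¹ (g (u0 m F)) = u0 m F := g.symm_apply_apply _
    conv_rhs => rw [← h4, hk]
    rw [map_smul, smul_smul, inv_mul_cancel₀ hk0, one_smul]

theorem dg_mem (d c : Fin m → Fˣ) (k l : Fˣ) (h : ∀ i, d i * c i = l) (hk : k * k = l) : dg d c k ∈ DS m F := by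
  refine ⟨?_, ⟨k, k.ne_zero, dg_u d c k⟩, _, dg_sim d c k l h hk⟩
  rintro ⟨i, b⟩
  cases b
  · exact ⟨c i, (c i).ne_zero, dg_f d c k i⟩
  · exact ⟨d i, (d i).ne_zero, dg_e d c k i⟩

theorem coef_ne {x x' : Fin m × Bool} {g : VV m F ≃ₗ[F] VV m F} {l : F}
    (h : g ((Fr m F).b x) = l • (Fr m F).b x') : l ≠ 0 := by
  rintro rfl
  rw [zero_smul] at h
  exact b_ne (Fr m F) x (g.map_eq_zero_iff.1 h)

/-- conjugation of the short root elements by a similitude -/
theorem conj_adm {l k : F} {g : VV m F ≃ₗ[F] VV m F} (hg : QSim (oddForm m F) l g)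
    (hk : g (u0 m F) = k • u0 m F) {x x' : Fin m × Bool} {c : F}
    (hx : g ((Fr m F).b x) = c • (Fr m F).b x') (a : F) :
    g * (Fr m F).Z x (adm a) * g⁻¹ = (Fr m F).Z x' (adm (l⁻¹ * c * k * a)) := by
  have hl : l = k * k := by
    have h1 := hg.q (u0 m F)
    rw [hk, Q_smul_u0, Q_u0, mul_one] at h1
    exact h1.symm
  have hl0 := hg.ne
  refine conj_Z_sim (Fr m F) hg.isSim hx _ _ ?_ ?_
  · rw [adm_w, adm_w, map_smul, hk, smul_smul, smul_smul]
    congr 1
    change l⁻¹ * c * a * k = _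
    ring
  · rw [adm_c, adm_c]
    change l⁻¹ * (c * c) * -(a * a) = _
    have hk0 : k ≠ 0 := by
      rintro rfl
      exact hl0 (by rw [hl, mul_zero])
    rw [hl]
    field_simp

theorem ylin {l k : F} {g : VV m F ≃ₗ[F] VV m F} (hg : QSim (oddForm m F) l g) (hk0 : k ≠ 0)
    (hk : g (u0 m F) = k • u0 m F) : YLin (yc m F) g := by
  intro x x' c hc
  exact ⟨l⁻¹ * c * k, mul_ne_zero (mul_ne_zero (inv_ne_zero hg.ne) (coef_ne hc)) hk0, fun a => conj_adm hg hk hc a⟩

theorem mono_u {g : VV m F ≃ₗ[F] VV m F} {l : F} (hg : QSim (oddForm m F) l g)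
    {π ρ : Fin m × Bool → Fin m × Bool}
    (hm : Mono (Fr m F) g π) (hρ : ∀ x, π (ρ x) = x) : ∃ k : F, k ≠ 0 ∧ g (u0 m F) = k • u0 m F := by
  have h1 := hg.map_V0 (wodd m F) hm hρ u0_mem
  refine ⟨g (u0 m F) (Sum.inl ()), fun h0 => ?_, V0_eq h1⟩
  have h2 := V0_eq h1
  rw [h0, zero_smul] at h2
  exact u0_ne (g.map_eq_zero_iff.1 h2)

variable [Finite F] {p : ℕ} [hp : Fact p.Prime] [CharP F p]

theorem good (h2 : (2 : F) ≠ 0) (hm : 2 ≤ m) : _root_.Cfsg.Agent.LieClassical.OrthTrans.Good (oddForm m F) := by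
  apply good_of_finite (nondeg_oddForm m F h2)
  rw [Module.finrank_fintype_fun_eq_card, Fintype.card_sum, Fintype.card_sum, Fintype.card_fin,
    Fintype.card_unit]
  omega

omit [Finite F] in
theorem exP : ∃ q : (Fr m F).Adm, q.c ≠ 0 := ⟨adm 1, by rw [adm_c]; simp⟩

/-- the model -/
noncomputable def mod (h2 : (2 : F) ≠ 0) (hm : 2 ≤ m) : Model (Fr m F) (Cfsg.POmega F ⇑(oddForm m F)) :=
  model (wodd m F) (good h2 hm) exP

theorem amb (h2 : (2 : F) ≠ 0) (hm : 2 ≤ m) : Cfsg.Agent.Nodes.WittAll.AmbT (Fr m F) p (mod h2 hm).I :=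
  Cfsg.Agent.Nodes.WittAll.AmbT.of_amb (amb_O_of_two (wodd m F) h2) p

theorem cop : (Nat.card (DS m F)).Coprime p := by
  have : Finite (VV m F ≃ₗ[F] VV m F) :=
    Finite.of_injective (fun g : VV m F ≃ₗ[F] VV m F => (g : _ → _)) DFunLike.coe_injective
  rw [Nat.coprime_comm, hp.out.coprime_iff_not_dvd]
  intro hd
  obtain ⟨g, hg⟩ := exists_prime_orderOf_dvd_card' p hd
  have h1 : g ^ p = 1 := by rw [← hg]; exact pow_orderOf_eq_one g
  have h5 : g.1 ^ p = 1 := congrArg Subtype.val h1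
  have key : ∀ (v : VV m F) (l : F), v ≠ 0 → g.1 v = l • v → g.1 v = v := by
    intro v l hv hl
    have h3 : ∀ k : ℕ, (g.1 ^ k) v = l ^ k • v := by
      intro k
      induction k with
      | zero => rw [pow_zero, pow_zero, one_smul]; rfl
      | succ k ih =>
        rw [pow_succ', pow_succ]
        change g.1 ((g.1 ^ k) v) = _
        rw [ih, map_smul, hl, smul_smul]
    have h4 := h3 p
    rw [h5] at h4
    have h6 : (1 : F) • v = l ^ p • v := by rw [one_smul]; exact h4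
    have h7 : 1 = l ^ p := smul_left_injective F hv h6
    have h8 : l = 1 := by
      have : (l - 1) ^ p = 0 := by rw [sub_pow_char, ← h7, one_pow, sub_self]
      exact sub_eq_zero.1 (eq_zero_of_pow_eq_zero this)
    rw [hl, h8, one_smul]
  have h2 : g.1 = 1 := by
    apply ext_b
    · intro x
      obtain ⟨l, hl0, hl⟩ := g.2.1 x
      exact key _ l (b_ne _ x) hl
    · obtain ⟨k, -, hk⟩ := g.2.2.1
      exact key _ k u0_ne hk
  have h3 : g = 1 := Subtype.ext h2
  rw [h3, orderOf_one] at hg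
  exact hp.out.one_lt.ne hg

theorem dgp [NeZero m] (h2 : (2 : F) ≠ 0) (hm : 2 ≤ m) : DG (Fr m F) (mod h2 hm).I (adm 1) p (DS m F) where
  sim g hg := by
    obtain ⟨l, hl⟩ := hg.2.2
    exact ⟨l, hl.isSim⟩
  mono g hg := hg.1
  ok g hg l' hl' v c h := by
    obtain ⟨l, hl⟩ := hg.2.2
    exact hl.ok (wodd m F) hg.1 (ρ := id) (fun _ => rfl) hl' h
  tor g hg := by
    have h1 : QSim (oddForm m F) 1 g := QSim.of_O (E_le_O hg.1)
    exact ⟨hg.2, mono_u h1 hg.2 (ρ := id) (fun _ => rfl), 1, h1⟩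
  comm g hg g' hg' := by
    apply ext_b
    · intro x
      obtain ⟨l, -, hl⟩ := hg.1 x
      obtain ⟨l', -, hl'⟩ := hg'.1 x
      change g (g' _) = g' (g _)
      rw [hl, hl']
      change g (l' • (Fr m F).b x) = g' (l • (Fr m F).b x)
      rw [map_smul, map_smul, hl, hl', smul_smul, smul_smul, mul_comm]
    · obtain ⟨k, -, hk⟩ := hg.2.1
      obtain ⟨k', -, hk'⟩ := hg'.2.1
      change g (g' _) = g' (g _)
      rw [hk, hk', map_smul, map_smul, hk, hk', smul_smul, smul_smul, mul_comm]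
  nn i g hg := by
    have h1 := mono_nn (Fr := Fr m F) (p0 := adm 1) (by rw [adm_c]; simp) i
    obtain ⟨l, hl⟩ := hg.2.2
    have h3 : _root_.Cfsg.Agent.Nodes.WittRGD.nn (Fr m F) (adm 1) i ∈ E (oddForm m F) :=
      Cfsg.Agent.Nodes.WittAll.nn_mem (amb (p := p) h2 hm) _ _
    have h4 : QSim (oddForm m F) 1 (_root_.Cfsg.Agent.Nodes.WittRGD.nn (Fr m F) (adm 1) i) := QSim.of_O (E_le_O h3)
    have h5 : QSim (oddForm m F) (1 * l * 1⁻¹) (_root_.Cfsg.Agent.Nodes.WittRGD.nn (Fr m F) (adm 1) i * g * (_root_.Cfsg.Agent.Nodes.WittRGD.nn (Fr m F) (adm 1) i)⁻¹) :=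
      (h4.mul hl).mul h4.inv
    have h6 : Mono (Fr m F) (_root_.Cfsg.Agent.Nodes.WittRGD.nn (Fr m F) (adm 1) i * g * (_root_.Cfsg.Agent.Nodes.WittRGD.nn (Fr m F) (adm 1) i)⁻¹) id :=
      ((h1.mul hg.1).mul (h1.inv (sg_sg i))).congr fun x => sg_sg i x
    exact ⟨h6, mono_u h5 h6 (ρ := id) (fun _ => rfl), _, h5⟩
  cop := cop

/-- **the data** -/
theorem wdat [NeZero m] (h2 : (2 : F) ≠ 0) (hm : 2 ≤ m) :
    WDat (mod h2 hm) p (adm 1) (DS m F) (yc m F) (ww m F) where
  full := H845.OC.full (wodd m F) (good h2 hm) exP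
  amb := amb h2 hm
  hp0 := by rw [adm_c]; simp
  dg := dgp h2 hm
  norm g hg := by
    obtain ⟨l, hl⟩ := hg.2.2
    exact hl.norm
  lin g hg := by
    obtain ⟨l, hl⟩ := hg.2.2
    obtain ⟨k, hk0, hk⟩ := hg.2.1
    exact ylin hl hk0 hk
  semi i := by
    have h1 := mono_nn (Fr := Fr m F) (p0 := adm 1) (by rw [adm_c]; simp) i
    have h3 : _root_.Cfsg.Agent.Nodes.WittRGD.nn (Fr m F) (adm 1) i ∈ E (oddForm m F) :=
      Cfsg.Agent.Nodes.WittAll.nn_mem (amb (p := p) h2 hm) _ _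
    have h4 : QSim (oddForm m F) 1 (_root_.Cfsg.Agent.Nodes.WittRGD.nn (Fr m F) (adm 1) i) := QSim.of_O (E_le_O h3)
    obtain ⟨k, hk0, hk⟩ := mono_u h4 h1 (sg_sg i)
    exact (ylin h4 hk0 hk).semi
  fulA d hd := by
    have h1 : ∀ i : Fin m, (Units.mk0 (d i) (hd i)) * (Units.mk0 (d i) (hd i))⁻¹ = 1 := fun i => mul_inv_cancel _
    have h3 := dg_sim (fun i => Units.mk0 (d i) (hd i)) (fun i => (Units.mk0 (d i) (hd i))⁻¹) 1 1 h1 (one_mul 1)
    refine ⟨dg (fun i => Units.mk0 (d i) (hd i)) (fun i => (Units.mk0 (d i) (hd i))⁻¹) 1,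
      dg_mem _ _ 1 1 h1 (one_mul 1), h3.isSim,
      fun k => dg_e _ _ _ k, fun k q hk => ?_⟩
    obtain ⟨a, rfl⟩ := (yc m F).surj q
    refine (conj_adm h3 (dg_u _ _ _) (dg_e _ _ _ k) a).trans ?_
    refine congrArg _ (congrArg adm ?_)
    rw [Units.val_mk0, hk]
    simp
  fulB c hc := by
    have h1 : ∀ i : Fin m, (1 : Fˣ) * ((Units.mk0 c hc)⁻¹ * (Units.mk0 c hc)⁻¹) =
      (Units.mk0 c hc)⁻¹ * (Units.mk0 c hc)⁻¹ := fun i => one_mul _
    have h3 := dg_sim (fun _ : Fin m => (1 : Fˣ)) (fun _ => (Units.mk0 c hc)⁻¹ * (Units.mk0 c hc)⁻¹) (Units.mk0 c hc)⁻¹ _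
      h1 rfl
    refine ⟨dg (fun _ => 1) (fun _ => (Units.mk0 c hc)⁻¹ * (Units.mk0 c hc)⁻¹) (Units.mk0 c hc)⁻¹,
      dg_mem _ _ _ _ h1 rfl, fun k => ?_, fun k a => ?_⟩
    · refine (dg_e _ _ _ k).trans ?_
      rw [Units.val_one, one_smul]
    · refine (conj_adm h3 (dg_u _ _ _) (dg_e _ _ _ k) a).trans ?_
      refine congrArg _ (congrArg adm ?_)
      simp only [Units.val_mul, Units.val_inv_eq_inv_val, Units.val_mk0, Units.val_one]
      field_simp
  wn := (QSim.of_O ww_O).norm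
  wi := fun v w => polar_map ww_O v w
  wm x := ⟨1, one_ne_zero, (ww_b x).trans (one_smul _ _).symm⟩
  wy x q := by
    obtain ⟨a, rfl⟩ := (yc m F).surj q
    exact ⟨_, conj_adm (QSim.of_O ww_O) (k := 1) (by rw [one_smul]; exact ww_u) (c := 1)
      ((ww_b x).trans (one_smul _ _).symm) a⟩
  w2 := ⟨1, one_ne_zero, ww_sq⟩
  wg g hg := by
    obtain ⟨l, hl⟩ := hg.2.2
    refine ⟨l, hl.ne, ?_⟩
    have winv : ∀ v, (ww m F)⁻¹ v = ww m F v := by
      intro v
      have h1 := ww_sq v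
      rw [one_smul] at h1
      have h2 : (ww m F)⁻¹ (ww m F (ww m F v)) = ww m F v := (ww m F).symm_apply_apply _
      rwa [h1] at h2
    have key : ww m F * g * (ww m F)⁻¹ = LinearEquiv.smulOfUnit (Units.mk0 l hl.ne) * g⁻¹ := by
      apply ext_b
      · intro x
        obtain ⟨a, ha0, ha⟩ := hg.1 x
        obtain ⟨a', ha0', ha'⟩ := hg.1 (neg x)
        have h1 : a * a' = l := by
          have h2 := hl.isSim.sim ((Fr m F).b x) ((Fr m F).b (neg x))
          rw [ha, ha', HForm.smul_left, HForm.smul_right, ← mul_assoc] at h2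
          refine mul_right_cancel₀ (b := (HO (oddForm m F)).h ((Fr m F).b x) ((Fr m F).b (neg x))) ?_ h2
          have := (Fr m F).hb_neg_self (neg x)
          rw [neg_neg] at this
          rw [this]
          exact (Fr m F).η_ne _
        have h3 : g⁻¹ ((Fr m F).b x) = a⁻¹ • (Fr m F).b x := by
          have h4 : g⁻¹ (g ((Fr m F).b x)) = (Fr m F).b x := g.symm_apply_apply _
          conv_rhs => rw [← h4, ha]
          rw [map_smul, smul_smul, inv_mul_cancel₀ ha0, one_smul]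
          rfl
        change ww m F (g ((ww m F)⁻¹ ((Fr m F).b x))) = l • g⁻¹ ((Fr m F).b x)
        rw [h3, winv, ww_b, ha', map_smul, id, ww_b, neg_neg, smul_smul, ← h1]
        congr 1
        field_simp
      · obtain ⟨k, hk0, hk⟩ := hg.2.1
        have h1 : l = k * k := by
          have h1 := hl.q (u0 m F)
          rw [hk, Q_smul_u0, Q_u0, mul_one] at h1
          exact h1.symm
        have h3 : g⁻¹ (u0 m F) = k⁻¹ • u0 m F := by
          have h4 : g⁻¹ (g (u0 m F)) = u0 m F := g.symm_apply_apply _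
          conv_rhs => rw [← h4, hk]
          rw [map_smul, smul_smul, inv_mul_cancel₀ hk0, one_smul]
        change ww m F (g ((ww m F)⁻¹ (u0 m F))) = l • g⁻¹ (u0 m F)
        rw [h3, winv, ww_u, hk, map_smul, ww_u, smul_smul, h1]
        congr 1
        field_simp
    intro v
    rw [key]
    rfl

end Cfsg.Agent.H845.OC.Odd

private theorem dce_02538e2340bb : _root_.True := by
  try have : _root_.True := by simp only [_root_.Cfsg.Agent.H845.OC.Odd.u0.eq_1]
  exact _root_.True.intro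
end
end
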